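import Groth.Agent.Triage.GenFinite
import Groth.Agent.MorLib.GenFinite
import Groth.Agent.FlatMisc.GenFlat
import Groth.Agent.CycLib.Finite
import Groth.Agent.VarDim.Top
import Groth.Agent.VarDim.Fibre
import Mathlib.AlgebraicGeometry.Morphisms.FlatRank

/-! Generic degree of a generically finite morphism, computed on the fibres. -/

set_option autoImplicit false
set_option backward.isDefEq.respectTransparency false
set_option backward.isDefEq.respectTransparency.types false

universe u

open CategoryTheory CategoryTheory.Limits AlgebraicGeometry TopologicalSpace Opposite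

namespace Groth.Agent.W4GenDeg

variable {X Y : Scheme.{u}} (f : X ⟶ Y)

theorem morph_restrict_le {P : MorphismProperty Scheme.{u}} [P.IsStableUnderBaseChange] {W W' : Y.Opens}
    (h : W ≤ W') (hP : P (f ∣_ W')) : P (f ∣_ W) := by
  have sq : CategoryTheory.IsPullback (X.homOfLE ((fun z hz => h hz) : f ⁻¹ᵁ W ≤ f ⁻¹ᵁ W')) (f ∣_ W) (f ∣_ W')
      (Y.homOfLE h) := by
    refine IsPullback.of_right ?_ ?_ (isPullback_morphismRestrict f W').flip
    · simpa using (isPullback_morphismRestrict f W).flip
    · rw [← cancel_mono W'.ι]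
      simp [morphismRestrict_ι]
  exact MorphismProperty.of_isPullback sq hP

/-- Points over the generic point and finiteness of the residue extension, for equal dimensions. -/
theorem generic_finite (k : Type u) [Field k] [IsIntegral X] [IsIntegral Y] [IsDominant f]
    (p : X ⟶ Spec (CommRingCat.of k)) (q : Y ⟶ Spec (CommRingCat.of k)) [LocallyOfFiniteType p]
    [LocallyOfFiniteType q] (hf : f ≫ q = p) (hdim : topologicalKrullDim ↥X = topologicalKrullDim ↥Y) :
    (f.residueFieldMap (genericPoint X)).hom.Finite ∧ ∀ x, f x = genericPoint Y → x = genericPoint X := by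
  haveI : LocallyOfFiniteType f := by subst hf; exact locallyOfFiniteType_of_comp f q
  have hd : VarDim.deg p (genericPoint X) = VarDim.deg q (genericPoint Y) := by
    rw [VarDim.topologicalKrullDim_eq_deg_genericPoint p, VarDim.topologicalKrullDim_eq_deg_genericPoint q] at hdim
    exact_mod_cast hdim
  refine ⟨?_, fun x hx => ?_⟩
  · have h1 := VarDim.deg_eq_add f q hf (genericPoint X)
    rw [Triage.GenFinite.map_genericPoint f, ← hd] at h1
    have h2 : (FibDim.rd f (genericPoint X) : Cardinal) = (VarDim.fdeg f (genericPoint X) : Cardinal) :=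
      (FibDim.rd_eq_rdeg f _).trans (VarDim.fdeg_eq_rdeg f q _).symm
    refine CycLib.finite_residueFieldMap_of_rd_eq_zero f _ ?_
    have h3 : FibDim.rd f (genericPoint X) = VarDim.fdeg f (genericPoint X) := by exact_mod_cast h2
    omega
  · by_contra hne
    have h1 := VarDim.deg_map_le f q hf x
    rw [hx, ← hd] at h1
    have h2 : VarDim.deg p x < VarDim.deg p (genericPoint X) := VarDim.deg_strictMono p
      (lt_iff_le_not_ge.2 ⟨genericPoint_specializes x, fun h => hne ((genericPoint_specializes x).antisymm h).eq.symm⟩)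
    omega

/-- A morphism is finite flat over a nonempty open. -/
theorem exists_finite_flat [IsIntegral X] [IsIntegral Y] [IsDominant f] [LocallyOfFiniteType f] [QuasiCompact f]
    (hfin : (f.residueFieldMap (genericPoint X)).hom.Finite)
    (huniq : ∀ x, f x = genericPoint Y → x = genericPoint X) :
    ∃ W : Y.Opens, IsAffineOpen W ∧ Nonempty W ∧ IsFinite (f ∣_ W) ∧ Flat (f ∣_ W) ∧
      LocallyOfFinitePresentation (f ∣_ W) := by
  classical
  have hXf : IsField (X.presheaf.stalk (genericPoint X)) := Triage.GenFinite.isField_stalk rfl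
  have hYf : IsField (Y.presheaf.stalk (f (genericPoint X))) :=
    Triage.GenFinite.isField_stalk (Triage.GenFinite.map_genericPoint f)
  have hA := (Triage.GenFinite.finite_residue_iff f hXf hYf).1 hfin
  obtain ⟨V, hV, hηV, -⟩ := exists_isAffineOpen_mem_and_subset (x := genericPoint Y) (U := ⊤) trivial
  have hξV : genericPoint X ∈ f ⁻¹ᵁ V := by
    show f (genericPoint X) ∈ V
    rw [Triage.GenFinite.map_genericPoint f]; exact hηV
  obtain ⟨U, hU, hξU, hUV⟩ := exists_isAffineOpen_mem_and_subset (x := genericPoint X) (U := f ⁻¹ᵁ V) hξV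
  obtain ⟨a, ha, hgood⟩ := Triage.GenFinite.exists_good f hA hV hU hUV hξU
  let C : Closeds X := ⟨(U : Set X)ᶜ, U.isOpen.isClosed_compl⟩
  let I := Scheme.IdealSheafData.vanishingIdeal C
  have hI : Set.range I.subschemeι = (C : Set X) := by
    rw [Scheme.IdealSheafData.range_subschemeι, Scheme.IdealSheafData.coe_support_vanishingIdeal]
  haveI : CompactSpace ↥(I.subschemeι ⁻¹ᵁ (f ⁻¹ᵁ V) : Scheme.{u}) := isCompact_iff_compactSpace.mp
    (QuasiCompact.isCompact_preimage (f := I.subschemeι) _ (f ⁻¹ᵁ V).2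
      (QuasiCompact.isCompact_preimage (f := f) _ V.2 hV.isCompact))
  have hgen : genericPoint Y ∈ genericPoints Y := by simp [genericPoints_eq_singleton]
  obtain ⟨W₀, hW₀, hW₀'⟩ := MorLib.GenFinite.exists_avoid f hgen
    ((I.subschemeι ⁻¹ᵁ (f ⁻¹ᵁ V)).ι ≫ I.subschemeι) hV hηV
    (fun t => by rw [Scheme.Hom.comp_apply]; exact t.2)
    (fun t ht => by
      rw [Scheme.Hom.comp_apply] at ht
      have h1 : I.subschemeι ((I.subschemeι ⁻¹ᵁ (f ⁻¹ᵁ V)).ι t) ∈ (C : Set X) := hI ▸ ⟨_, rfl⟩
      rw [huniq _ ht] at h1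
      exact h1 hξU)
  obtain ⟨W₁, hW₁, hW₁le, hfl, hlfp⟩ := _root_.FlatMisc.exists_flat_open f (W₀ ⊓ V) ⟨_, hW₀, hηV⟩
  have hηW₁ : genericPoint Y ∈ W₁ := ((genericPoint_spec Y).mem_open_set_iff W₁.isOpen).2 (by simpa using hW₁)
  obtain ⟨b, hbW, hηb⟩ := hV.exists_basicOpen_le (V := W₁) ⟨_, hηW₁⟩ hηV
  have hηa : genericPoint Y ∈ Y.basicOpen a := by
    refine ((genericPoint_spec Y).mem_open_set_iff (Y.basicOpen a).isOpen).2 ?_
    rw [Set.univ_inter, Set.nonempty_iff_ne_empty]
    intro h
    exact ha ((basicOpen_eq_bot_iff a).1 (Opens.ext h))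
  have hηab : genericPoint Y ∈ Y.basicOpen (a * b) := by
    rw [Scheme.basicOpen_mul]; exact ⟨hηa, hηb⟩
  obtain ⟨e, hfinW⟩ := hgood (a * b) (dvd_mul_right a b)
  have hWW₁ : Y.basicOpen (a * b) ≤ W₁ := le_trans (by rw [Scheme.basicOpen_mul]; exact inf_le_right) hbW
  have hpre : X.basicOpen (f.appLE V U hUV (a * b)) = f ⁻¹ᵁ Y.basicOpen (a * b) := by
    rw [Scheme.basicOpen_appLE]
    refine le_antisymm inf_le_right (le_inf (fun z hz => ?_) le_rfl)
    by_contra hzU
    obtain ⟨t, ht⟩ : z ∈ Set.range I.subschemeι := hI ▸ hzU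
    have hzW := hW₁le (hWW₁ hz)
    rw [← ht] at hzW
    refine hW₀' ⟨t, hzW.2⟩ ?_
    rw [Scheme.Hom.comp_apply]
    exact hzW.1
  refine ⟨Y.basicOpen (a * b), hV.basicOpen _, ⟨⟨_, hηab⟩⟩,
    Triage.GenFinite.isFinite_morphismRestrict_of_eq f e hpre hfinW, ?_, ?_⟩
  · have h : f ⁻¹ᵁ Y.basicOpen (a * b) ≤ f ⁻¹ᵁ W₁ := fun z hz => hWW₁ hz
    haveI := hfl
    exact morph_restrict_le f hWW₁ (P := @Flat) hfl
  · exact morph_restrict_le f hWW₁ (P := @LocallyOfFinitePresentation) hlfp

/-- The rank of the global sections of a finite scheme over a field. -/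
theorem finrank_appTop {K : Type u} [Field K] {P : Scheme.{u}} (g : P ⟶ Spec (CommRingCat.of K)) [IsFinite g]
    [Flat g] (s : Spec (CommRingCat.of K)) :
    (letI := ((Scheme.ΓSpecIso (CommRingCat.of K)).inv ≫ g.appTop).hom.toAlgebra
     Module.finrank K ↑(Γ(P, ⊤))) = g.finrank s := by
  letI := ((Scheme.ΓSpecIso (CommRingCat.of K)).inv ≫ g.appTop).hom.toAlgebra
  haveI : IsAffine P := isAffine_of_isAffineHom g
  have hg : g = P.isoSpec.hom ≫ Spec.map (CommRingCat.ofHom (algebraMap K Γ(P, ⊤))) := by
    show g = P.isoSpec.hom ≫ Spec.map ((Scheme.ΓSpecIso (CommRingCat.of K)).inv ≫ g.appTop)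
    rw [Spec.map_comp, Scheme.isoSpec_hom_naturality_assoc]
    simp [Scheme.isoSpec_Spec_hom, ← Spec.map_comp]
  haveI : Module.Finite K Γ(P, ⊤) := by
    have h : RingHom.Finite ((Scheme.ΓSpecIso (CommRingCat.of K)).inv ≫ g.appTop).hom :=
      RingHom.Finite.comp g.finite_appTop
        (.of_surjective _ (ConcreteCategory.bijective_of_isIso (Scheme.ΓSpecIso (CommRingCat.of K)).inv).surjective)
    exact h
  conv_rhs => rw [hg]
  haveI : IsFinite (Spec.map (CommRingCat.ofHom (algebraMap K Γ(P, ⊤)))) :=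
    (IsFinite.SpecMap_iff _).2 (show Module.Finite K Γ(P, ⊤) from inferInstance)
  haveI : Flat (Spec.map (CommRingCat.ofHom (algebraMap K Γ(P, ⊤)))) :=
    (Flat.SpecMap_iff (f := _)).2 (RingHom.flat_algebraMap_iff.2 inferInstance)
  rw [Scheme.Hom.finrank_comp_left_of_isIso, Scheme.Hom.finrank_SpecMap_algebraMap,
    Module.rankAtStalk_eq_finrank_of_free]
  rfl

/-- The fibre rank over an open where the morphism is finite flat. -/
theorem fibre_rank (W : Y.Opens) [IsFinite (f ∣_ W)] [Flat (f ∣_ W)] (y : Y) (hy : y ∈ W) :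
    IsFinite (pullback.snd f (Y.fromSpecResidueField y)) ∧
      (letI := ((Scheme.ΓSpecIso (CommRingCat.of (Y.residueField y))).inv ≫
          (pullback.snd f (Y.fromSpecResidueField y)).appTop).hom.toAlgebra
       Module.finrank (Y.residueField y) ↑(Γ(pullback f (Y.fromSpecResidueField y), ⊤))) =
        (f ∣_ W).finrank ⟨y, hy⟩ := by
  have hr : Set.range (Y.fromSpecResidueField y) ⊆ Set.range W.ι := by
    rw [Scheme.range_fromSpecResidueField, Scheme.Opens.range_ι]
    exact Set.singleton_subset_iff.2 hy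
  let l := IsOpenImmersion.lift W.ι (Y.fromSpecResidueField y) hr
  have hl : l ≫ W.ι = Y.fromSpecResidueField y := IsOpenImmersion.lift_fac _ _ _
  have sqW : IsPullback (f ⁻¹ᵁ W).ι (f ∣_ W) f W.ι := (isPullback_morphismRestrict f W).flip
  have big : IsPullback (pullback.fst (f ∣_ W) l ≫ (f ⁻¹ᵁ W).ι) (pullback.snd (f ∣_ W) l) f
      (Y.fromSpecResidueField y) := hl ▸ (IsPullback.of_hasPullback (f ∣_ W) l).paste_horiz sqW
  let e := big.isoPullback
  have he : pullback.snd f (Y.fromSpecResidueField y) = e.inv ≫ pullback.snd (f ∣_ W) l :=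
    big.isoPullback_inv_snd.symm
  haveI : IsFinite (pullback.snd (f ∣_ W) l) := inferInstance
  haveI : Flat (pullback.snd (f ∣_ W) l) := MorphismProperty.pullback_snd _ _ inferInstance
  haveI hF : IsFinite (pullback.snd f (Y.fromSpecResidueField y)) := by rw [he]; infer_instance
  haveI : Flat (pullback.snd f (Y.fromSpecResidueField y)) := by rw [he]; infer_instance
  refine ⟨hF, ?_⟩
  let s : Spec (Y.residueField y) := IsLocalRing.closedPoint _
  refine (finrank_appTop (K := Y.residueField y) _ s).trans ?_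
  rw [show pullback.snd f (Y.fromSpecResidueField y) = e.inv ≫ pullback.snd (f ∣_ W) l from he,
    Scheme.Hom.finrank_comp_left_of_isIso, Scheme.Hom.finrank_pullback_snd]
  congr 1
  refine Subtype.ext ?_
  show (W.ι (l s)) = y
  rw [← Scheme.Hom.comp_apply, hl, Scheme.fromSpecResidueField_apply]

/-- The rank over a finite flat open is the degree of the residue extension at the generic point. -/
theorem rank_eq_degree [IsIntegral X] [IsIntegral Y] [IsDominant f] (W : Y.Opens) (hW : IsAffineOpen W)
    [Nonempty W] [IsFinite (f ∣_ W)] [Flat (f ∣_ W)] [LocallyOfFinitePresentation (f ∣_ W)] (w : W.toScheme) :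
    (f ∣_ W).finrank w =
      (letI := (f.residueFieldMap (genericPoint X)).hom.toAlgebra
       Module.finrank (Y.residueField (f (genericPoint X))) (X.residueField (genericPoint X))) := by
  have hηY : f (genericPoint X) = genericPoint Y := Triage.GenFinite.map_genericPoint f
  have hηW : f (genericPoint X) ∈ W := by
    rw [hηY]
    exact ((genericPoint_spec Y).mem_open_set_iff W.isOpen).2 (by
      obtain ⟨z, hz⟩ := ‹Nonempty W›
      exact ⟨z, trivial, hz⟩)
  let V := f ⁻¹ᵁ W
  haveI : Nonempty V := ⟨⟨_, hηW⟩⟩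
  haveI : IsAffine W.toScheme := hW
  haveI : IsAffine V.toScheme := isAffine_of_isAffineHom (f ∣_ W)
  have hV : IsAffineOpen V := inferInstanceAs (IsAffine V.toScheme)
  haveI : IsIntegral W.toScheme := inferInstance
  rw [(f ∣_ W).isLocallyConstant_finrank.apply_eq_of_preconnectedSpace w ⟨f (genericPoint X), hηW⟩]
  let R := Γ(Y, W)
  let S := Γ(X, V)
  letI : Algebra R S := (f.app W).hom.toAlgebra
  let m := arrowResLEAppIso f W V le_rfl
  haveI hfin : Module.Finite R S := by
    have h := (f ∣_ W).finite_appTop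
    rw [← Scheme.Hom.resLE_eq_morphismRestrict] at h
    have := (RingHom.finite_respectsIso.arrow_mk_iso_iff m).1 h
    rw [Scheme.Hom.appLE_eq_app] at this
    exact this
  haveI hflat : Module.Flat R S := by
    have h := (f ∣_ W).flat_appTop
    rw [← Scheme.Hom.resLE_eq_morphismRestrict] at h
    have := (RingHom.Flat.respectsIso.arrow_mk_iso_iff m).1 h
    rw [Scheme.Hom.appLE_eq_app] at this
    exact this
  have hsq : CategoryTheory.IsPullback hV.fromSpec (Spec.map (f.app W)) f hW.fromSpec := by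
    refine IsPullback.flip (IsOpenImmersion.isPullback _ _ _ _ ?_ ?_)
    · rw [← IsAffineOpen.SpecMap_appLE_fromSpec f hW hV le_rfl, Scheme.Hom.appLE_eq_app]
    · apply Opens.ext
      simp only [Scheme.Hom.coe_opensRange, Scheme.Hom.coe_preimage, IsAffineOpen.range_fromSpec]
      rfl
  have hsq' : CategoryTheory.IsPullback hV.isoSpec.inv (Spec.map (f.app W)) (f ∣_ W) hW.isoSpec.inv := by
    refine IsPullback.of_right ?_ ?_ (isPullback_morphismRestrict f W).flip
    · rw [show hV.isoSpec.inv ≫ (f ⁻¹ᵁ W).ι = hV.fromSpec from hV.isoSpec_inv_ι, hW.isoSpec_inv_ι]; exact hsq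
    · rw [← cancel_mono W.ι]
      simp only [Category.assoc, morphismRestrict_ι, IsAffineOpen.isoSpec_inv_ι]
      exact hsq.w.trans (by simp [IsAffineOpen.isoSpec_inv_ι])
  let P := hW.isoSpec.hom ⟨f (genericPoint X), hηW⟩
  have hP : hW.isoSpec.inv P = ⟨f (genericPoint X), hηW⟩ := by
    show (hW.isoSpec.hom ≫ hW.isoSpec.inv) _ = _
    rw [Iso.hom_inv_id]; rfl
  rw [← hP, ← Scheme.Hom.finrank_of_isPullback _ _ _ _ hsq' P]
  rw [show f.app W = CommRingCat.ofHom (algebraMap R S) from rfl, Scheme.Hom.finrank_SpecMap_algebraMap]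
  rw [Module.rankAtStalk_eq, Ideal.finrank_fiber_eq_finrank]
  -- the fraction fields
  let K := Y.presheaf.stalk (f (genericPoint X))
  let L := X.presheaf.stalk (genericPoint X)
  have hK : IsField K ∧ (letI := (Y.presheaf.germ W (f (genericPoint X)) hηW).hom.toAlgebra
      IsFractionRing R K) := by
    have gen : ∀ (z : Y) (hz : z ∈ W), z = genericPoint Y → IsField (Y.presheaf.stalk z) ∧
        letI := (Y.presheaf.germ W z hz).hom.toAlgebra
        IsFractionRing Γ(Y, W) (Y.presheaf.stalk z) := by
      rintro z hz rfl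
      exact ⟨Field.toIsField Y.functionField, functionField_isFractionRing_of_isAffineOpen Y W hW⟩
    exact gen _ hηW hηY
  obtain ⟨hKf, hKfr⟩ := hK
  letI := hKf.toField
  letI : Algebra R K := (Y.presheaf.germ W (f (genericPoint X)) hηW).hom.toAlgebra
  letI : Algebra S L := (X.presheaf.germ V (genericPoint X) hηW).hom.toAlgebra
  haveI : IsFractionRing S L := functionField_isFractionRing_of_isAffineOpen X V hV
  letI : Algebra K L := (f.stalkMap (genericPoint X)).hom.toAlgebra
  letI : Algebra R L := ((algebraMap S L).comp (algebraMap R S)).toAlgebra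
  haveI : IsScalarTower R S L := IsScalarTower.of_algebraMap_eq fun _ => rfl
  haveI : IsScalarTower R K L := IsScalarTower.of_algebraMap_eq fun a => by
    show X.presheaf.germ V _ hηW (f.app W a) = f.stalkMap _ (Y.presheaf.germ W _ hηW a)
    rw [Scheme.Hom.germ_stalkMap_apply]
  haveI : Nontrivial R := inferInstance
  haveI : IsDomain R := inferInstance
  haveI : IsDomain S := inferInstance
  haveI : FaithfulSMul R S := by
    refine (faithfulSMul_iff_algebraMap_injective R S).2 fun a a' h => IsFractionRing.injective R K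
      ((algebraMap K L).injective ?_)
    rw [← IsScalarTower.algebraMap_apply, ← IsScalarTower.algebraMap_apply, IsScalarTower.algebraMap_apply R S L,
      IsScalarTower.algebraMap_apply R S L, h]
  haveI : Algebra.IsAlgebraic R S := Algebra.IsIntegral.isAlgebraic
  rw [← IsFractionRing.finrank_eq R K S L]
  have hXf : IsField L := Triage.GenFinite.isField_stalk rfl
  letI : Algebra (Y.residueField (f (genericPoint X))) (X.residueField (genericPoint X)) :=
    (f.residueFieldMap (genericPoint X)).hom.toAlgebra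
  refine Algebra.finrank_eq_of_equiv_equiv
    (RingEquiv.ofBijective (Y.residue (f (genericPoint X))).hom (Triage.GenFinite.bijective_residue hKf))
    (RingEquiv.ofBijective (X.residue (genericPoint X)).hom (Triage.GenFinite.bijective_residue hXf)) ?_
  exact congrArg CommRingCat.Hom.hom (Scheme.residue_residueFieldMap f (genericPoint X))

end Groth.Agent.W4GenDeg
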