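import Groth.Agent.S2082
import Groth.Agent.AvramovLib.Ps
import Groth.Agent.VarDim.Local
import Groth.Agent.VarDim.Top
import Groth.Agent.VarDim.Fibre
import Groth.Agent.FibDim.AffineSpaceFibre
import Mathlib.AlgebraicGeometry.Morphisms.QuasiFinite
import Mathlib.AlgebraicGeometry.Morphisms.Flat
import Mathlib.RingTheory.HopkinsLevitzki

/-! Quasi-finite morphisms between regular varieties of equal dimension are flat. -/

set_option autoImplicit false
set_option backward.isDefEq.respectTransparency false
set_option backward.isDefEq.respectTransparency.types false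

universe u

open CategoryTheory AlgebraicGeometry

namespace Groth.Agent.W4GenDeg

theorem flat_local {R S : Type u} [CommRing R] [CommRing S] [IsRegularLocalRing R] [IsRegularLocalRing S]
    [Algebra R S] [IsLocalHom (algebraMap R S)] [Algebra.QuasiFinite R S]
    (hdim : ringKrullDim S = ringKrullDim R) : Module.Flat R S := by
  have hcm : LocCoh.IsCohenMacaulayLocalRing S := Groth.Agent.AvramovLib.isCM_of_regular S
  refine Groth.Agent.S2082.result ?_
  have hle : (IsLocalRing.maximalIdeal R).map (algebraMap R S) ≤ IsLocalRing.maximalIdeal S :=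
    ((IsLocalRing.local_hom_TFAE (algebraMap R S)).out 0 2).1 ‹IsLocalHom (algebraMap R S)›
  have hne : (IsLocalRing.maximalIdeal R).map (algebraMap R S) ≠ ⊤ := fun h =>
    (IsLocalRing.maximalIdeal.isMaximal S).ne_top (top_le_iff.1 (h ▸ hle))
  let T := S ⧸ (IsLocalRing.maximalIdeal R).map (algebraMap R S)
  haveI : Nontrivial T := Ideal.Quotient.nontrivial_iff.2 hne
  letI := Ideal.Quotient.field (IsLocalRing.maximalIdeal R)
  letI : Algebra (R ⧸ IsLocalRing.maximalIdeal R) T :=
    (Ideal.quotientMap _ (algebraMap R S) Ideal.le_comap_map).toAlgebra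
  haveI : IsScalarTower R (R ⧸ IsLocalRing.maximalIdeal R) T := IsScalarTower.of_algebraMap_eq fun _ => rfl
  haveI : IsScalarTower R S T := IsScalarTower.of_algebraMap_eq fun _ => rfl
  haveI : Algebra.QuasiFinite R T :=
    Algebra.QuasiFinite.of_surjective_algHom (IsScalarTower.toAlgHom R S T) Ideal.Quotient.mk_surjective
  haveI : Algebra.QuasiFinite (R ⧸ IsLocalRing.maximalIdeal R) T :=
    Algebra.QuasiFinite.of_restrictScalars R _ T
  haveI : Module.Finite (R ⧸ IsLocalRing.maximalIdeal R) T := Algebra.QuasiFinite.iff_of_isArtinianRing.1 inferInstance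
  haveI : IsArtinianRing T := IsArtinianRing.of_finite (R ⧸ IsLocalRing.maximalIdeal R) T
  haveI : Ring.KrullDimLE 0 T := inferInstance
  rw [show ringKrullDim (S ⧸ (IsLocalRing.maximalIdeal R).map (algebraMap R S)) = 0 from ringKrullDimZero_iff_ringKrullDim_eq_zero.1 ‹Ring.KrullDimLE 0 T›]
  simpa using hdim

theorem flat_of_quasiFinite_regular {k : Type u} [Field k] {X Y : Scheme.{u}} [IsIntegral X] [IsIntegral Y]
    (p : X ⟶ Spec (CommRingCat.of k)) (q : Y ⟶ Spec (CommRingCat.of k)) [LocallyOfFiniteType p]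
    [LocallyOfFiniteType q] (f : X ⟶ Y) [LocallyOfFiniteType f] [LocallyQuasiFinite f] (hf : f ≫ q = p)
    (hdim : topologicalKrullDim ↥X = topologicalKrullDim ↥Y)
    (hX : ∀ x : X, IsRegularLocalRing (X.presheaf.stalk x))
    (hY : ∀ y : Y, IsRegularLocalRing (Y.presheaf.stalk y)) : Flat f := by
  refine Flat.of_stalkMap f fun x => ?_
  haveI := hX x
  haveI := hY (f x)
  letI := (f.stalkMap x).hom.toAlgebra
  haveI : IsLocalHom (algebraMap (Y.presheaf.stalk (f x)) (X.presheaf.stalk x)) :=
    inferInstanceAs (IsLocalHom (f.stalkMap x).hom)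
  haveI : Algebra.QuasiFinite (Y.presheaf.stalk (f x)) (X.presheaf.stalk x) := f.quasiFiniteAt x
  refine flat_local ?_
  rw [VarDim.topologicalKrullDim_eq_deg_genericPoint p, VarDim.topologicalKrullDim_eq_deg_genericPoint q] at hdim
  have hd : VarDim.deg p (genericPoint X) = VarDim.deg q (genericPoint Y) := by exact_mod_cast hdim
  have h0 : VarDim.fdeg f x = 0 := by
    have h2 : (FibDim.rd f x : Cardinal) = (VarDim.fdeg f x : Cardinal) :=
      (FibDim.rd_eq_rdeg f _).trans (VarDim.fdeg_eq_rdeg f q _).symm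
    rw [FibDim.rd_eq_zero_of_quasiFinite f x] at h2
    exact_mod_cast h2.symm
  have h1 := VarDim.deg_eq_add f q hf x
  obtain ⟨a, ha, ⟨η, hη, hηd⟩, hmax⟩ := VarDim.exists_deg_add_stalk p x
  obtain ⟨b, hb, ⟨η', hη', hη'd⟩, hmax'⟩ := VarDim.exists_deg_add_stalk q (f x)
  have e1 := hmax _ (genericPoint_specializes x)
  have e2 := VarDim.deg_le_of_specializes p (genericPoint_specializes η)
  have e3 := hmax' _ (genericPoint_specializes (f x))
  have e4 := VarDim.deg_le_of_specializes q (genericPoint_specializes η')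
  rw [ha, hb]
  exact_mod_cast (show a = b by omega)

end Groth.Agent.W4GenDeg
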